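import Cfsg.Agent.H403.HermElt
import Cfsg.Agent.H376.CocAlt_m3
import Cfsg.Agent.H372.FourList_m3
import Cfsg.Agent.H376.WordEmb
import Mathlib
import Cfsg.Agent.H72.Task106
import Cfsg.Agent.Prune
set_option linter.all false
prune_inst 0x7f00000000000000000000000000000000000000000000000000000000000000000000000000000000000000000000000000000000000000000000000000000000000000000000000000000000000000003fffffffffffffffffffffffffffbeffbdffffffff
open scoped Cfsg.Agent.FastGrp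

-- part: H621/TwoElt/Sl
section
/-!
# Elements of order `2 ^ (m + 1)` in `SL_l(F)`, `l > 2 ^ (m - 1)`, `F` of odd order, without scalar powers (helper621)
-/

set_option autoImplicit false

namespace Cfsg.Agent.H621.TwoElt

open Matrix Cfsg

/-- `2 ^ (m + 1)` divides `q ^ (2 ^ (m - 1)) - 1`, `q` odd, `m ≥ 2` -/
theorem two_pow_dvd {q m : ℕ} (hq : Odd q) (hm : 2 ≤ m) : 2 ^ (m + 1) ∣ q ^ 2 ^ (m - 1) - 1 := by
  obtain ⟨k, rfl⟩ := Nat.exists_eq_add_of_le hm
  clear hm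
  induction k with
  | zero =>
    have h1 := Nat.eight_dvd_sq_sub_one_of_odd hq
    simpa using h1
  | succ k ih =>
    have h1 : 2 + (k + 1) - 1 = (2 + k - 1) + 1 := by omega
    have h2 : 2 + (k + 1) + 1 = (2 + k + 1) + 1 := by omega
    rw [h1, h2, pow_succ 2 (2 + k - 1), pow_mul, pow_succ 2 (2 + k + 1)]
    set x := q ^ 2 ^ (2 + k - 1) with hx
    have hxo : Odd x := hq.pow
    have h3 : x ^ 2 - 1 = (x - 1) * (x + 1) := by
      have := Nat.sq_sub_sq x 1
      rw [one_pow] at this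
      rw [this, mul_comm]
    rw [h3]
    exact Nat.mul_dvd_mul ih (by obtain ⟨j, hj⟩ := hxo; exact ⟨j + 1, by omega⟩)

variable {F : Type*} [Field F] [Fintype F]

/-- **elements of order `2 ^ (m + 1)` without scalar powers** -/
theorem exists_sl {l m : ℕ} (hF : Odd (Fintype.card F)) (hm : 2 ≤ m) (hl : 2 ^ (m - 1) + 1 ≤ l) :
    ∃ x : Matrix.SpecialLinearGroup (Fin l) F, orderOf x = 2 ^ (m + 1) ∧
      ∀ j : ℕ, x ^ j ∈ Subgroup.center (Matrix.SpecialLinearGroup (Fin l) F) → x ^ j = 1 := by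
  classical
  obtain ⟨n, hn⟩ : ∃ n, n = 2 ^ (m - 1) := ⟨_, rfl⟩
  have hn0 : 1 ≤ n := by rw [hn]; exact Nat.one_le_two_pow
  have hd := two_pow_dvd hF hm
  rw [← hn] at hl hd
  obtain ⟨M, hM⟩ := Cfsg.Agent.H403.exists_mat_lin (F := F) rfl hn0 hd
  have hMN : M ^ 2 ^ (m + 1) = 1 := by rw [← hM]; exact pow_orderOf_eq_one M
  have hdN : M.det ^ 2 ^ (m + 1) = 1 := by rw [← Matrix.det_pow, hMN, Matrix.det_one]
  have hd0 : M.det ≠ 0 := by
    intro h0
    rw [h0, zero_pow (by positivity)] at hdN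
    exact zero_ne_one hdN
  -- the matrix `diag(M, det M⁻¹)`
  let D : Matrix (Fin 1) (Fin 1) F := (M.det⁻¹) • (1 : Matrix (Fin 1) (Fin 1) F)
  have hDdet : D.det = M.det⁻¹ := by
    change ((M.det⁻¹) • (1 : Matrix (Fin 1) (Fin 1) F)).det = _
    rw [Matrix.det_smul]
    simp
  let y : Matrix.SpecialLinearGroup (Fin n ⊕ Fin 1) F := ⟨fromBlocks M 0 0 D, by
    rw [det_fromBlocks_zero₂₁, hDdet, mul_inv_cancel₀ hd0]⟩
  have hypow : ∀ j : ℕ, (y ^ j).1 = fromBlocks (M ^ j) 0 0 (D ^ j) := by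
    intro j
    rw [Matrix.SpecialLinearGroup.coe_pow]
    change (fromBlocks M 0 0 D) ^ j = _
    rw [Matrix.fromBlocks_diagonal_pow]
  have hDpow : ∀ j : ℕ, D ^ j = ((M.det⁻¹) ^ j) • (1 : Matrix (Fin 1) (Fin 1) F) := by
    intro j
    change ((M.det⁻¹) • (1 : Matrix (Fin 1) (Fin 1) F)) ^ j = _
    rw [smul_pow, one_pow]
  have hyo : orderOf y = 2 ^ (m + 1) := by
    apply Nat.dvd_antisymm
    · apply orderOf_dvd_of_pow_eq_one
      apply Subtype.ext
      rw [hypow, hMN, hDpow, inv_pow, hdN, inv_one, one_smul, fromBlocks_one]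
      rfl
    · rw [← hM]
      apply orderOf_dvd_of_pow_eq_one
      have h1 := hypow (orderOf y)
      rw [pow_orderOf_eq_one] at h1
      have h2 : fromBlocks (1 : Matrix (Fin n) (Fin n) F) 0 0 (1 : Matrix (Fin 1) (Fin 1) F) =
          fromBlocks (M ^ orderOf y) 0 0 (D ^ orderOf y) := by
        rw [← h1, fromBlocks_one]
        rfl
      exact (fromBlocks_inj.1 h2).1.symm
  -- scalar powers
  have hysc : ∀ (j : ℕ) (r : F), (y ^ j).1 = r • 1 → y ^ j = 1 := by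
    intro j r hr
    rw [hypow] at hr
    obtain ⟨h1, h2⟩ := Cfsg.Agent.H376.Coc.fromBlocks_eq_smul_one hr
    rw [hDpow] at h2
    have h3 : (M.det⁻¹) ^ j = r := by
      have := congrFun (congrFun h2 0) 0
      simpa using this
    have h4 : M.det ^ j = r ^ n := by
      rw [← Matrix.det_pow, h1, Matrix.det_smul, Matrix.det_one, mul_one, Fintype.card_fin]
    have hr0 : r ≠ 0 := by
      rw [← h3]
      exact pow_ne_zero _ (inv_ne_zero hd0)
    have h5 : r ^ (n + 1) = 1 := by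
      rw [pow_succ, ← h4, ← h3, ← mul_pow, mul_inv_cancel₀ hd0, one_pow]
    have h6 : r ^ 2 ^ (m + 1) = 1 := by
      rw [← h3, ← pow_mul, mul_comm, pow_mul, inv_pow, hdN, inv_one, one_pow]
    have hco : Nat.Coprime (n + 1) (2 ^ (m + 1)) := by
      apply Nat.Coprime.pow_right
      rw [Nat.coprime_two_right, hn]
      refine Even.add_one ?_
      rw [Nat.even_pow]
      exact ⟨even_two, by omega⟩
    have h7 : r = 1 := by
      have h8 : orderOf r ∣ Nat.gcd (n + 1) (2 ^ (m + 1)) :=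
        Nat.dvd_gcd (orderOf_dvd_of_pow_eq_one h5) (orderOf_dvd_of_pow_eq_one h6)
      rw [hco.gcd_eq_one] at h8
      exact orderOf_eq_one_iff.1 (Nat.dvd_one.1 h8)
    apply Subtype.ext
    rw [hypow, h1, hDpow, h3, h7, one_smul, one_smul, fromBlocks_one]
    rfl
  -- the block in `SL_l`
  obtain ⟨φ, hφi, hφ⟩ := Cfsg.Agent.H376.Coc.exists_phi (F := F) (a := n + 1) (b := 0) (n := l) (by omega)
  let e : Fin n ⊕ Fin 1 ≃ Fin (n + 1) := finSumFinEquiv
  let y' : Matrix.SpecialLinearGroup (Fin (n + 1)) F := Cfsg.Agent.H376.WordEmb.reidx e y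
  refine ⟨φ (y', 1), ?_, ?_⟩
  · rw [orderOf_injective φ hφi, Prod.orderOf_mk, orderOf_one, Nat.lcm_one_right,
      orderOf_injective _ (Cfsg.Agent.H376.WordEmb.reidx_injective e), hyo]
  · intro j hj
    obtain ⟨r, hr⟩ := Cfsg.Agent.H376.Coc.center_scalar hj
    rw [← map_pow] at hr
    have h1 := (hφ _ r hr).1
    have h2 : (y ^ j).1 = r • 1 := by
      have h3 : ((y', (1 : Matrix.SpecialLinearGroup (Fin 0) F)) ^ j).1.1 =
          (y ^ j).1.submatrix e.symm e.symm := by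
        change (y' ^ j).1 = _
        rw [← map_pow]
        rfl
      rw [h3] at h1
      exact Cfsg.Agent.H376.Coc.submatrix_eq_smul_one e h1
    have h3 := hysc j r h2
    rw [← map_pow]
    have h4 : ((y', (1 : Matrix.SpecialLinearGroup (Fin 0) F)) ^ j) = 1 := by
      apply Prod.ext
      · change y' ^ j = 1
        rw [← map_pow, h3, map_one]
      · change (1 : Matrix.SpecialLinearGroup (Fin 0) F) ^ j = 1
        exact one_pow _
    rw [h4, map_one]

/-- a perfect group in the isometry group gives elements of `PΩ` -/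
theorem exists_pomega {X Y : Type*} [Group X] [Group Y] (φ : X →* Y) (hφ : Function.Injective φ)
    (hX : commutator X = ⊤) (x : X) (hx : ∀ j : ℕ, x ^ j ∈ Subgroup.center X → x ^ j = 1) :
    ∃ g : commutator Y ⧸ Subgroup.center (commutator Y), orderOf g = orderOf x := by
  let ψ := Cfsg.Agent.H372.perfHom φ hX
  have hψ : Function.Injective ψ := Cfsg.Agent.H372.perfHom_injective hX hφ
  refine ⟨QuotientGroup.mk (ψ x), ?_⟩
  rw [Cfsg.Agent.H376.Coc.orderOf_mk_of, orderOf_injective ψ hψ]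
  intro k hk
  rw [← map_pow] at hk ⊢
  rw [hx k, map_one]
  rw [Subgroup.mem_center_iff] at hk ⊢
  intro g
  apply hψ
  rw [map_mul, map_mul]
  exact hk (ψ g)

end Cfsg.Agent.H621.TwoElt
end

-- part: H621/TwoElt/Orth
section
/-!
# `PΩ^±_{2l}(q)`, `q` odd : a large coclique gives an element of order `2 ^ (m + 1)` (helper621, for S3629)
-/

set_option autoImplicit false

namespace Cfsg.Agent.H621.TwoElt

open Matrix Cfsg
open Cfsg.Agent.H72.AdjOrth Cfsg.Agent.H72.AdjCoc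

section abs

variable {q R : ℕ} {adj : ℕ → ℕ → Prop} {P : ℕ → Prop} {ρ T : Finset ℕ}

/-- cocliques all of whose members have weight more than `2` -/
theorem coc_top (hprime : ∀ s ∈ ρ, s.Prime) (h2 : 2 ∉ ρ)
    (hclass : ∀ s ∈ ρ, s ≠ 2 → ¬ s ∣ q → P (ee q s))
    (hcoc : ∀ r ∈ ρ, ∀ s ∈ ρ, r ≠ s → ¬ adj r s)
    (hclq : ∀ r s : ℕ, r.Prime → s.Prime → r ≠ 2 → s ≠ 2 → r ≠ s → ¬ r ∣ q → ¬ s ∣ q → ee q r = ee q s →
      P (ee q r) → adj r s) {w : ℕ} (hw : 2 ≤ w) (hall : ∀ s ∈ ρ, w < wO q s)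
    (hT : ∀ k, P k → w < eta k → k ∈ T) : ρ.card ≤ T.card := by
  have hA : ∀ s ∈ ρ, s ≠ 2 ∧ ¬ s ∣ q := by
    intro s hs
    refine ⟨fun h => h2 (h ▸ hs), fun h => ?_⟩
    have h3 := hall s hs
    have h4 : wO q s = 2 := if_pos (Or.inr h)
    omega
  refine card_filter_le hprime hclass hcoc hclq ρ (Finset.Subset.refl _) hA ?_
  intro s hs hP
  refine hT _ hP ?_
  have h3 := hall s hs
  have h4 : wO q s = eta (ee q s) := if_neg (not_or.2 (hA s hs))
  omega

end abs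

variable {F : Type*} [Field F] [Fintype F]

theorem plus_bound {R : ℕ} (hR : 4 ≤ R) {C : Finset ℕ}
    (hC : Cfsg.Agent.H376.Coc.IsCoc (Cfsg.POmega F (Cfsg.quadFormPlus R F)) C) (h2 : 2 ∉ C) :
    4 * C.card ≤ 3 * R + 5 ∨ C.card ≤ 7 := by
  classical
  by_cases hR12 : R ≤ 4
  · have h1 := plus_coclique' hR (ρ := C) (fun r hr => ⟨hC.prime r hr, hC.dvd r hr⟩)
      (fun r hr s hs hrs => hC.indep r hr s hs hrs)
    have h3 : R = 4 := by omega
    subst h3
    exact Or.inr (by omega)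
  left
  by_cases h : ∃ x ∈ C, wO (Nat.card F) x ≤ (R - 1) / 2
  · obtain ⟨x, hx, hxw⟩ := h
    have h1 := plus_coclique hR (ρ := C) (fun r hr => ⟨hC.prime r hr, hC.dvd r hr⟩)
      (fun r hr s hs hrs => hC.indep r hr s hs hrs) hx (by omega)
    omega
  · push Not at h
    have h1 : C.card ≤ (cl ((R - 1) / 2) (R - 1) ∪ topP R).card := by
      refine coc_top (q := Nat.card F) (w := (R - 1) / 2)
        (adj := fun r s => ∃ z : Cfsg.POmega F (Cfsg.quadFormPlus R F), orderOf z = r * s)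
        (P := fun k => eta k < R ∨ (eta k = R ∧ sg k = 1)) hC.prime h2
        (fun s hs _ hsq => plus_class hR (hC.prime s hs) hsq (hC.dvd s hs)) hC.indep
        (fun r s hr hs hr2 hs2 hrs hrq hsq h hk => plus_clq hR hr hs hr2 hs2 hrs hrq hsq h hk)
        (by omega) h ?_
      intro k hk hk2
      rw [Finset.mem_union, mem_cl]
      rcases hk with hk | hk
      · left
        omega
      · exact Or.inr (mem_topP hk.1 hk.2)
    have h3 := card_cl_le ((R - 1) / 2) (R - 1)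
    have h4 := card_topP R
    have h5 := Finset.card_union_le (cl ((R - 1) / 2) (R - 1)) (topP R)
    omega

theorem minus_bound {R : ℕ} (hR : 4 ≤ R) {a b : F}
    (hab : ∀ z₁ z₂ : F, z₁ ^ 2 + a * z₁ * z₂ + b * z₂ ^ 2 = 0 → z₁ = 0 ∧ z₂ = 0) {C : Finset ℕ}
    (hC : Cfsg.Agent.H376.Coc.IsCoc (Cfsg.POmega F (Cfsg.quadFormMinus (R - 1) F a b)) C) (h2 : 2 ∉ C) :
    4 * C.card ≤ 3 * R + 6 ∨ C.card ≤ 8 := by
  classical
  by_cases hR12 : R ≤ 4
  · have h1 := minus_coclique' hR hab (ρ := C) (fun r hr => ⟨hC.prime r hr, hC.dvd r hr⟩)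
      (fun r hr s hs hrs => hC.indep r hr s hs hrs)
    exact Or.inr (by omega)
  left
  by_cases h : ∃ x ∈ C, wO (Nat.card F) x ≤ (R - 1) / 2
  · obtain ⟨x, hx, hxw⟩ := h
    have h1 := minus_coclique hR hab (ρ := C) (fun r hr => ⟨hC.prime r hr, hC.dvd r hr⟩)
      (fun r hr s hs hrs => hC.indep r hr s hs hrs) hx (by omega)
    omega
  · push Not at h
    have h1 : C.card ≤ (cl ((R - 1) / 2) (R - 1) ∪ {2 * R}).card := by
      refine coc_top (q := Nat.card F) (w := (R - 1) / 2)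
        (adj := fun r s => ∃ z : Cfsg.POmega F (Cfsg.quadFormMinus (R - 1) F a b), orderOf z = r * s)
        (P := fun k => eta k < R ∨ (eta k = R ∧ sg k = -1)) hC.prime h2
        (fun s hs hs2 hsq => minus_class hR hab (hC.prime s hs) hs2 hsq (hC.dvd s hs)) hC.indep
        (fun r s hr hs hr2 hs2 hrs hrq hsq h hk => minus_clq hR hab hr hs hr2 hs2 hrs hrq hsq h hk)
        (by omega) h ?_
      intro k hk hk2
      rw [Finset.mem_union, mem_cl]
      rcases hk with hk | hk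
      · left
        omega
      · exact Or.inr (mem_topM hk.1 hk.2)
    have h3 := card_cl_le ((R - 1) / 2) (R - 1)
    have h5 := Finset.card_union_le (cl ((R - 1) / 2) (R - 1)) {2 * R}
    rw [Finset.card_singleton] at h5
    omega

theorem two_pow_pred {m : ℕ} (hm : 5 ≤ m) : 16 ≤ 2 ^ (m - 1) := by
  calc 16 = 2 ^ 4 := by norm_num
    _ ≤ 2 ^ (m - 1) := Nat.pow_le_pow_right (by norm_num) (by omega)

/-- **`PΩ⁺_{2l}(q)`, `q` odd** -/
theorem oplus_odd (hF : Odd (Fintype.card F)) {l m : ℕ} (hl : 4 ≤ l) (hm : 5 ≤ m) {C : Finset ℕ}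
    (hC : Cfsg.Agent.H376.Coc.IsCoc (Cfsg.POmega F (Cfsg.quadFormPlus l F)) C) (h2 : 2 ∉ C)
    (hc : 2 ^ (m - 1) - 1 ≤ C.card) :
    ∃ g : Cfsg.POmega F (Cfsg.quadFormPlus l F), orderOf g = 2 ^ (m + 1) := by
  have h16 := two_pow_pred hm
  have hl2 : 2 ^ (m - 1) + 1 ≤ l := by
    rcases plus_bound hl hC h2 with h | h
    · omega
    · omega
  obtain ⟨φ, hφ⟩ := Cfsg.Agent.H376.WordEmb.sl_plus (F := F) l
  obtain ⟨x, hx, hx2⟩ := exists_sl (F := F) hF (by omega : 2 ≤ m) hl2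
  obtain ⟨g, hg⟩ := exists_pomega φ hφ (Cfsg.Agent.H372.sl_perfect (by omega)) x hx2
  exact ⟨g, hg.trans hx⟩

/-- **`PΩ⁻_{2l+2}(q)`, `q` odd** -/
theorem ominus_odd (hF : Odd (Fintype.card F)) {l m : ℕ} (hl : 3 ≤ l) (hm : 5 ≤ m) {a b : F}
    (hab : ∀ z₁ z₂ : F, z₁ ^ 2 + a * z₁ * z₂ + b * z₂ ^ 2 = 0 → z₁ = 0 ∧ z₂ = 0) {C : Finset ℕ}
    (hC : Cfsg.Agent.H376.Coc.IsCoc (Cfsg.POmega F (Cfsg.quadFormMinus l F a b)) C) (h2 : 2 ∉ C)
    (hc : 2 ^ (m - 1) - 1 ≤ C.card) :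
    ∃ g : Cfsg.POmega F (Cfsg.quadFormMinus l F a b), orderOf g = 2 ^ (m + 1) := by
  have h16 := two_pow_pred hm
  have hl2 : 2 ^ (m - 1) + 1 ≤ l := by
    rcases minus_bound (R := l + 1) (by omega) hab hC h2 with h | h
    · omega
    · omega
  obtain ⟨φ, hφ⟩ := Cfsg.Agent.H376.WordEmb.sl_minus (F := F) l a b
  obtain ⟨x, hx, hx2⟩ := exists_sl (F := F) hF (by omega : 2 ≤ m) hl2
  obtain ⟨g, hg⟩ := exists_pomega φ hφ (Cfsg.Agent.H372.sl_perfect (by omega)) x hx2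
  exact ⟨g, hg.trans hx⟩

end Cfsg.Agent.H621.TwoElt
end
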